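import Groth.Agent.Fano.K924.ConVan
import Groth.Agent.Sga67.PushTwistA

/-!
# Isomorphisms of conics and matrices (nodes E1, E2, E3, E4 of the plan for conics on a general hypersurface)
-/

set_option autoImplicit false

universe u

open CategoryTheory CategoryTheory.Limits AlgebraicGeometry

namespace K924.ConI

open K390.PnSec Groth.Agent.Fdesc.LocGen Groth.Agent.Dix.ProjProper
open K188.LineDef K745.ConDef K924.ConVan

variable {k : Type u} [Field k] {n : ℕ}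

/-- Node K4a, as a hypothesis. -/
def NodeK4a : Prop := ∀ {T C : Scheme.{u}} {c : Fin 5 → Γ(T, ⊤)} {f : C ⟶ T} {L : C.Modules} {x : Fin 3 → Γ(L, ⊤)}
    (_ : IsCon c f L x) (s : Γ(L, ⊤)), ∃! a : Fin 3 → Γ(T, ⊤), s = ∑ i, (f.appTop (a i)) • x i

/-- Node K4b, as a hypothesis. -/
def NodeK4b : Prop := ∀ {T C : Scheme.{u}} {c : Fin 5 → Γ(T, ⊤)} {f : C ⟶ T} {L : C.Modules} {x : Fin 3 → Γ(L, ⊤)}
    (_ : IsCon c f L x) {m : ℕ} (F : MvPolynomial (Fin 3) Γ(T, ⊤)) (_ : F.IsHomogeneous m), Van f x F ↔ qf c ∣ F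

/-- `h` pulls the sections `x'_i` back to the sections `Σ_j g_{ij} x_j`. -/
def Cov {T C C' : Scheme.{u}} {L : C.Modules} {L' : C'.Modules} (f : C ⟶ T) (x : Fin 3 → Γ(L, ⊤))
    (x' : Fin 3 → Γ(L', ⊤)) (h : C ⟶ C') (g : Matrix (Fin 3) (Fin 3) Γ(T, ⊤)) : Prop :=
  ∃ τ : (Scheme.Modules.pullback h).obj L' ≅ L, ∀ i,
    τ.hom.app ⊤ (pullTop h (x' i)) = ∑ j, (f.appTop (g i j)) • x j

section UnivProp

variable {T C : Scheme.{u}} {c : Fin 5 → Γ(T, ⊤)} {f : C ⟶ T} {L : C.Modules} {x : Fin 3 → Γ(L, ⊤)}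

/-- The universal property of a conic (node K2a). -/
theorem existsUnique_hom (h : IsCon c f L x) {Y : Scheme.{u}} (g : Y ⟶ T) (M : Y.Modules)
    (y : Fin 3 → Γ(M, ⊤)) (hy : Gens y) (hv : Van g y (qf c)) :
    ∃! r : Y ⟶ C, r ≫ f = g ∧
      ∃ τ : (Scheme.Modules.pullback r).obj L ≅ M, ∀ i, τ.hom.app ⊤ (pullTop r (x i)) = y i := by
  obtain ⟨ι, rfl, hg, hz⟩ := h
  have := hz.isClosedImmersion
  obtain ⟨r0, hr0⟩ := exists_givenBy' y hy
  have h0 : GivenBy (toZ 2 T) _ (crd 2 T) := GivenBy.refl (toZ 2 T)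
  have h1 : GivenBy (liftP r0 g ≫ toZ 2 T) _ (fun i => pullTop (liftP r0 g) (crd 2 T i)) := h0.comp _
  have h2 : GivenBy (liftP r0 g ≫ toZ 2 T) M y := by rw [liftP_toZ]; exact hr0
  obtain ⟨e, he⟩ := h1.exists_iso h2
  have h3 : Van (liftP r0 g ≫ pr2 T) (fun i => pullTop (liftP r0 g) (crd 2 T i)) (qf c) := by
    refine (van_iff_of_iso e he).mpr ?_
    have h4 : liftP r0 g ≫ pr2 T = g := liftP_toBase r0 g
    rw [h4]
    exact hv
  obtain ⟨r, hr⟩ := (hz.exists_iff _).mpr h3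
  refine ⟨r, ⟨?_, ?_⟩, ?_⟩
  · rw [← Category.assoc, hr]
    exact liftP_toBase r0 g
  · have h5 : GivenBy (r ≫ ι ≫ toZ 2 T) _ (fun i => pullTop r (x i)) := hg.comp r
    have h6 : GivenBy (r ≫ ι ≫ toZ 2 T) M y := by rw [← Category.assoc, hr]; exact h2
    exact h5.exists_iso h6
  · rintro r' ⟨hr', τ, hτ⟩
    rw [← cancel_mono ι]
    have h5 : GivenBy (r' ≫ ι ≫ toZ 2 T) _ (fun i => pullTop r' (x i)) := hg.comp r'
    have h6 := h5.of_iso τ
    simp only [hτ] at h6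
    refine hom_ext_over ?_ ?_
    · rw [hr, liftP_toZ, Category.assoc]
      exact h6.unique' hr0
    · rw [hr, Category.assoc]
      exact hr'.trans (liftP_toBase r0 g).symm

end UnivProp

section CovCalc

variable {T C C' C'' : Scheme.{u}} {L : C.Modules} {L' : C'.Modules} {L'' : C''.Modules}
  {x : Fin 3 → Γ(L, ⊤)} {x' : Fin 3 → Γ(L', ⊤)} {x'' : Fin 3 → Γ(L'', ⊤)}

theorem appTop_of_comp {f : C ⟶ T} {f' : C' ⟶ T} {r : C ⟶ C'} (hr : r ≫ f' = f) (t : Γ(T, ⊤)) :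
    r.appTop (f'.appTop t) = f.appTop t := by
  subst hr
  rw [Scheme.Hom.comp_appTop]
  rfl

theorem pullTop_id (t : Γ(L, ⊤)) : ((Scheme.Modules.pullbackId C).hom.app L).app ⊤ (pullTop (𝟙 C) t) = t := by
  have h := unit_conjugateEquiv (Adjunction.id (C := C.Modules))
    (Scheme.Modules.pullbackPushforwardAdjunction (𝟙 C)) (Scheme.Modules.pullbackId C).hom L
  rw [Scheme.Modules.conjugateEquiv_pullbackId_hom] at h
  exact congr(($(h).app ⊤) t).symm

theorem Cov.id (f : C ⟶ T) (x : Fin 3 → Γ(L, ⊤)) : Cov f x x (𝟙 C) 1 := by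
  refine ⟨(Scheme.Modules.pullbackId C).app L, fun i => ?_⟩
  refine (pullTop_id (x i)).trans ?_
  simp [Matrix.one_apply]

/-- The sections `pullTop r (Σ_j g_ij x'_j)`. -/
theorem app_pull_sum {f : C ⟶ T} {f' : C' ⟶ T} {r : C ⟶ C'} (hr : r ≫ f' = f)
    (τ : (Scheme.Modules.pullback r).obj L' ⟶ L) {κ : Type} [Fintype κ] (t : κ → Γ(L', ⊤)) (a : κ → Γ(T, ⊤)) :
    τ.app ⊤ (pullTop r (∑ j, (f'.appTop (a j)) • t j)) = ∑ j, (f.appTop (a j)) • τ.app ⊤ (pullTop r (t j)) := by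
  rw [pullTop_sum_smul, app_sum_smul]
  refine Finset.sum_congr rfl fun j _ => ?_
  rw [appTop_of_comp hr]

theorem Cov.comp {f : C ⟶ T} {f' : C' ⟶ T} {r : C ⟶ C'} (hr : r ≫ f' = f) {r' : C' ⟶ C''}
    {g g' : Matrix (Fin 3) (Fin 3) Γ(T, ⊤)} (h : Cov f x x' r g) (h' : Cov f' x' x'' r' g') :
    Cov f x x'' (r ≫ r') (g' * g) := by
  obtain ⟨τ, hτ⟩ := h
  obtain ⟨τ', hτ'⟩ := h'
  refine ⟨((Scheme.Modules.pullbackComp r r').symm.app L'') ≪≫ (Scheme.Modules.pullback r).mapIso τ' ≪≫ τ,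
    fun i => ?_⟩
  have h1 : ((Scheme.Modules.pullbackComp r r').inv.app L'').app ⊤ (pullTop (r ≫ r') (x'' i)) =
      pullTop r (pullTop r' (x'' i)) := pullSec_comp r r' (x'' i)
  have h2 : ((Scheme.Modules.pullback r).map τ'.hom).app ⊤ (pullTop r (pullTop r' (x'' i))) =
      pullTop r (τ'.hom.app ⊤ (pullTop r' (x'' i))) := pullback_map_pullSec r τ'.hom (U := ⊤) _
  have h3 : (((Scheme.Modules.pullbackComp r r').symm.app L'') ≪≫ (Scheme.Modules.pullback r).mapIso τ' ≪≫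
      τ).hom.app ⊤ (pullTop (r ≫ r') (x'' i)) = τ.hom.app ⊤ (((Scheme.Modules.pullback r).map τ'.hom).app ⊤
        (((Scheme.Modules.pullbackComp r r').inv.app L'').app ⊤ (pullTop (r ≫ r') (x'' i)))) := rfl
  rw [h3, h1, h2, hτ' i, app_pull_sum hr]
  simp only [hτ, Matrix.mul_apply, map_sum, map_mul, Finset.smul_sum, Finset.sum_smul, smul_smul]
  rw [Finset.sum_comm]

end CovCalc

section Gen

variable {T C : Scheme.{u}} {L M : C.Modules}

/-- Morphisms which agree on generating sections are equal. -/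
theorem hom_ext_gens {m : ℕ} {s : Fin m → Γ(M, ⊤)} (hs : Gens s) {a b : M ⟶ L}
    (h : ∀ i, a.app ⊤ (s i) = b.app ⊤ (s i)) : a = b := by
  have key : ∀ (U : C.Opens) (t : Γ(M, U)), a.app U t = b.app U t := by
    intro U t
    have hcov : U ≤ ⨆ i, U ⊓ CohB1.genLocus M (homOf (s i)) := by
      rw [← inf_iSup_eq]
      exact le_inf le_rfl (le_top.trans hs.ge)
    refine res_ext L (fun i => U ⊓ CohB1.genLocus M (homOf (s i))) (fun i => inf_le_left) hcov fun i => ?_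
    have hg : IsGen (res M (le_top : U ⊓ CohB1.genLocus M (homOf (s i)) ≤ ⊤) (s i)) := by
      have h1 := isGen_sec_genLocus (homOf (s i))
      rw [sec_homOf] at h1
      have h2 := h1.res (inf_le_right : U ⊓ CohB1.genLocus M (homOf (s i)) ≤ _)
      rwa [res_res] at h2
    obtain ⟨c, hc⟩ := hg.exists_eq (res M inf_le_left t)
    rw [← app_res a, ← app_res b, hc]
    have h3 := Scheme.Modules.Hom.app_smul a c (res M (le_top : U ⊓ CohB1.genLocus M (homOf (s i)) ≤ ⊤) (s i))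
    have h4 := Scheme.Modules.Hom.app_smul b c (res M (le_top : U ⊓ CohB1.genLocus M (homOf (s i)) ≤ ⊤) (s i))
    refine h3.trans (Eq.trans ?_ h4.symm)
    congr 1
    rw [app_res, app_res, h i]
  apply Scheme.Modules.hom_ext
  intro U
  ext t
  exact key U t

/-- If generating sections are combinations of the sections `y`, then `y` generate. -/
theorem gens_of_sum {f : C ⟶ T} {m m' : ℕ} {x : Fin m → Γ(L, ⊤)} {y : Fin m' → Γ(L, ⊤)} (hx : Gens x)
    (g : Fin m → Fin m' → Γ(T, ⊤)) (h : ∀ j, x j = ∑ i, (f.appTop (g j i)) • y i) : Gens y := by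
  rw [Gens, eq_top_iff] at hx ⊢
  intro p hp
  obtain ⟨j, hj⟩ := TopologicalSpace.Opens.mem_iSup.mp (hx hp)
  set U := CohB1.genLocus L (homOf (x j)) with hU
  have he : IsGen (res L (le_top : U ≤ ⊤) (x j)) := by
    have := isGen_sec_genLocus (homOf (x j))
    rwa [sec_homOf] at this
  choose a ha using fun i => he.exists_eq (res L (le_top : U ≤ ⊤) (y i))
  have h1 : (1 : Γ(C, U)) = ∑ i, ρV f U (g j i) * a i := by
    refine he.ext ?_
    rw [one_smul, Finset.sum_smul]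
    conv_lhs => rw [h j, map_sum]
    refine Finset.sum_congr rfl fun i _ => ?_
    rw [res_smul, ha i, smul_smul]
    rfl
  have h2 : ∃ i, p ∈ C.basicOpen (a i) := by
    by_contra hne
    push Not at hne
    have h3 : ∀ i, (C.presheaf.germ U p hj).hom (a i) ∈ IsLocalRing.maximalIdeal (C.presheaf.stalk p) := by
      intro i
      rw [IsLocalRing.mem_maximalIdeal, mem_nonunits_iff]
      exact fun hu => hne i ((Scheme.mem_basicOpen _ _ _ hj).mpr hu)
    have h4 := congrArg (C.presheaf.germ U p hj).hom h1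
    rw [map_one, map_sum] at h4
    have h5 : (1 : C.presheaf.stalk p) ∈ IsLocalRing.maximalIdeal (C.presheaf.stalk p) := by
      rw [h4]
      refine Ideal.sum_mem _ fun i _ => ?_
      rw [map_mul]
      exact Ideal.mul_mem_left _ _ (h3 i)
    exact (Ideal.ne_top_iff_one _).mp (IsLocalRing.maximalIdeal.isMaximal _).ne_top h5
  obtain ⟨i, hi⟩ := h2
  refine TopologicalSpace.Opens.mem_iSup.mpr ⟨i, ?_⟩
  have h3 := genLocus_inf_eq (homOf (y i)) he ((sec_homOf _ _).trans (ha i))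
  rw [← h3] at hi
  exact hi.1

theorem mul_sum_smul {f : C ⟶ T} {x : Fin 3 → Γ(L, ⊤)} (g g' : Matrix (Fin 3) (Fin 3) Γ(T, ⊤)) (i : Fin 3) :
    ∑ j, (f.appTop (g' i j)) • ∑ l, (f.appTop (g j l)) • x l = ∑ l, (f.appTop ((g' * g) i l)) • x l := by
  simp only [Matrix.mul_apply, map_sum, map_mul, Finset.smul_sum, Finset.sum_smul, smul_smul]
  rw [Finset.sum_comm]

theorem one_sum_smul {f : C ⟶ T} {x : Fin 3 → Γ(L, ⊤)} (i : Fin 3) :
    ∑ j, (f.appTop ((1 : Matrix (Fin 3) (Fin 3) Γ(T, ⊤)) i j)) • x j = x i := by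
  simp [Matrix.one_apply]

end Gen

section E

variable {T C C' : Scheme.{u}} {c c' : Fin 5 → Γ(T, ⊤)} {f : C ⟶ T} {f' : C' ⟶ T} {L : C.Modules}
  {L' : C'.Modules} {x : Fin 3 → Γ(L, ⊤)} {x' : Fin 3 → Γ(L', ⊤)}

theorem existsUnique_cov (h : IsCon c f L x) (h' : IsCon c' f' L' x') (g : Matrix (Fin 3) (Fin 3) Γ(T, ⊤))
    (hg : IsUnit g.det) (hv : Van f x (comp3 (qf c') g)) : ∃! r : C ⟶ C', r ≫ f' = f ∧ Cov f x x' r g := by
  refine existsUnique_hom h' f L (fun i => ∑ j, (f.appTop (g i j)) • x j) ?_ (van_comp3_iff.mpr hv)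
  refine gens_of_sum (f := f) (gens h) (g⁻¹ : Matrix (Fin 3) (Fin 3) Γ(T, ⊤)) fun j => ?_
  rw [mul_sum_smul, Matrix.nonsing_inv_mul g hg, one_sum_smul]

/-- Node E1: an invertible matrix `g` with `qf c' ∘ g = u • qf c` defines an isomorphism of conics. -/
theorem existsUnique_of_matrix (h : IsCon c f L x) (h' : IsCon c' f' L' x')
    (g : Matrix (Fin 3) (Fin 3) Γ(T, ⊤)) (hg : IsUnit g.det) (w : Γ(T, ⊤)) (hw : IsUnit w)
    (hq : comp3 (qf c') g = MvPolynomial.C w * qf c) :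
    ∃ r : C ⟶ C', (r ≫ f' = f ∧ Cov f x x' r g) ∧ IsIso r ∧ ∀ r', r' ≫ f' = f → Cov f x x' r' g → r' = r := by
  obtain ⟨r, hr, hu⟩ := existsUnique_cov h h' g hg (by rw [hq]; exact van_C_mul (van_qf h) _)
  obtain ⟨w', hw'⟩ := hw.exists_left_inv
  have hq' : comp3 (qf c) g⁻¹ = MvPolynomial.C w' * qf c' := by
    have h1 : comp3 (comp3 (qf c') g) g⁻¹ = comp3 (MvPolynomial.C w * qf c) g⁻¹ := by rw [hq]
    rw [comp3_comp3, Matrix.mul_nonsing_inv g hg, comp3_one, comp3_C_mul] at h1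
    rw [h1, ← mul_assoc, ← MvPolynomial.C_mul, hw', MvPolynomial.C_1, one_mul]
  have hg' : IsUnit (g⁻¹).det := by
    rw [Matrix.det_nonsing_inv]
    exact hg.ringInverse
  obtain ⟨s, hs, -⟩ := existsUnique_cov h' h g⁻¹ hg' (by rw [hq']; exact van_C_mul (van_qf h') _)
  have h1 : r ≫ s = 𝟙 C := by
    refine (existsUnique_cov h h 1 (by simp) (by rw [comp3_one]; exact van_qf h)).unique ⟨?_, ?_⟩
      ⟨Category.id_comp _, Cov.id f x⟩
    · rw [Category.assoc, hs.1, hr.1]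
    · have := hr.2.comp hr.1 hs.2
      rwa [Matrix.nonsing_inv_mul g hg] at this
  have h2 : s ≫ r = 𝟙 C' := by
    refine (existsUnique_cov h' h' 1 (by simp) (by rw [comp3_one]; exact van_qf h')).unique ⟨?_, ?_⟩
      ⟨Category.id_comp _, Cov.id f' x'⟩
    · rw [Category.assoc, hr.1, hs.1]
    · have := hs.2.comp hs.1 hr.2
      rwa [Matrix.mul_nonsing_inv g hg] at this
  exact ⟨r, hr, ⟨s, h1, h2⟩, fun r' h3 h4 => hu r' ⟨h3, h4⟩⟩

theorem msec_eq (φ : Fin (n + 1) → Fin 3 → Γ(T, ⊤)) (l : Fin (n + 1)) :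
    msec f x φ l = ∑ i, (f.appTop (φ l i)) • x i := rfl

/-- Node E2: an isomorphism of conics compatible with the maps to projective space comes from a unique matrix. -/
theorem existsUnique_matrix_aux (K4a : NodeK4a.{u}) (h : IsCon c f L x)
    (φ φ' : Fin (n + 1) → Fin 3 → Γ(T, ⊤)) (μ : C ⟶ CohB1.ProjSpace n k) (μ' : C' ⟶ CohB1.ProjSpace n k)
    (hs : GivenBy μ L (msec f x φ)) (hs' : GivenBy μ' L' (msec f' x' φ')) (r : C ⟶ C') (hr : r ≫ f' = f)
    (hrμ : r ≫ μ' = μ) :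
    ∃! g : Matrix (Fin 3) (Fin 3) Γ(T, ⊤), Cov f x x' r g ∧ ∀ l j, φ l j = ∑ i, φ' l i * g i j := by
  have h1 : GivenBy μ ((Scheme.Modules.pullback r).obj L') (fun l => pullTop r (msec f' x' φ' l)) := by
    rw [← hrμ]; exact hs'.comp r
  obtain ⟨e, he⟩ := h1.exists_iso hs
  have hgen : Gens (fun l => pullTop r (msec f' x' φ' l)) := h1.iSup_genLocus
  have uniq : ∀ (a b : Fin 3 → Γ(T, ⊤)), ∑ j, (f.appTop (a j)) • x j = ∑ j, (f.appTop (b j)) • x j → a = b :=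
    fun a b hab => (K4a h (∑ j, (f.appTop (a j)) • x j)).unique rfl hab
  choose g hg _ using fun i => K4a h (e.hom.app ⊤ (pullTop r (x' i)))
  refine ⟨g, ⟨⟨e, hg⟩, fun l j => ?_⟩, ?_⟩
  · have h2 := he l
    rw [msec_eq, app_pull_sum hr, msec_eq] at h2
    have h3 : ∑ i, (f.appTop (φ' l i)) • e.hom.app ⊤ (pullTop r (x' i)) =
        ∑ j, (f.appTop (∑ i, φ' l i * g i j)) • x j := by
      simp only [hg, map_sum, map_mul, Finset.smul_sum, Finset.sum_smul, smul_smul]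
      rw [Finset.sum_comm]
    exact congrFun (uniq _ _ (h2.symm.trans h3)) j
  · rintro g' ⟨⟨τ, hτ⟩, hφ⟩
    have h2 : e.hom = τ.hom := by
      refine hom_ext_gens hgen fun l => ?_
      rw [he l, msec_eq, msec_eq, app_pull_sum hr]
      simp only [hτ, map_sum, map_mul, Finset.smul_sum, smul_smul, hφ, Finset.sum_smul]
      rw [Finset.sum_comm]
    funext i
    refine uniq _ _ ?_
    rw [← hτ i, ← h2, hg i]

/-- Node E3: the matrix of an isomorphism is invertible and compatible with the equations. -/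
theorem isUnit_det_of_cov (K4a : NodeK4a.{u}) (K4b : NodeK4b.{u}) (h : IsCon c f L x) (h' : IsCon c' f' L' x')
    (r : C ⟶ C') (hr : r ≫ f' = f) (hi : IsIso r) (g : Matrix (Fin 3) (Fin 3) Γ(T, ⊤)) (hg : Cov f x x' r g) :
    IsUnit g.det ∧ ∃ w : Γ(T, ⊤), IsUnit w ∧ comp3 (qf c') g = MvPolynomial.C w * qf c := by
  have key : ∀ {C C' : Scheme.{u}} {c c' : Fin 5 → Γ(T, ⊤)} {f : C ⟶ T} {f' : C' ⟶ T} {L : C.Modules}
      {L' : C'.Modules} {x : Fin 3 → Γ(L, ⊤)} {x' : Fin 3 → Γ(L', ⊤)} (_ : IsCon c f L x) (_ : IsCon c' f' L' x')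
      (r : C ⟶ C') (_ : r ≫ f' = f) (g : Matrix (Fin 3) (Fin 3) Γ(T, ⊤)) (_ : Cov f x x' r g),
      ∃ w : Γ(T, ⊤), comp3 (qf c') g = MvPolynomial.C w * qf c := by
    intro C C' c c' f f' L L' x x' h h' r hr g ⟨τ, hτ⟩
    refine exists_eq_C_mul (isHomogeneous_comp3 (isHomogeneous_qf c') g)
      ((K4b h _ (isHomogeneous_comp3 (isHomogeneous_qf c') g)).mp ?_)
    rw [← van_comp3_iff]
    refine (van_iff_of_iso τ hτ).mp ?_
    have := van_pull (van_qf h') (isHomogeneous_qf c') (isInvertible h') r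
    rwa [hr] at this
  -- the inverse matrix
  obtain ⟨τ, hτ⟩ := hg
  have hsurj : ∀ z : Γ((Scheme.Modules.pullback r).obj L', ⊤), ∃ t : Γ(L', ⊤), pullTop r t = z := by
    have := Groth.Agent.Sga67.PushTwist.pullSec_bijective r L' (U := ⊤) (by rw [Scheme.Hom.opensRange_of_isIso])
    exact this.2
  choose t ht using fun i => hsurj (τ.inv.app ⊤ (x i))
  obtain ⟨g', hg'⟩ : ∃ g' : Matrix (Fin 3) (Fin 3) Γ(T, ⊤), ∀ i, t i = ∑ j, (f'.appTop (g' i j)) • x' j := by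
    choose g' hg' _ using fun i => K4a h' (t i)
    exact ⟨g', hg'⟩
  have h1 : ∀ i, τ.hom.app ⊤ (pullTop r (t i)) = x i := by
    intro i
    rw [ht i]
    exact congr(($(τ.inv_hom_id).app ⊤) (x i))
  have uniq : ∀ (a b : Fin 3 → Γ(T, ⊤)), ∑ j, (f.appTop (a j)) • x j = ∑ j, (f.appTop (b j)) • x j → a = b :=
    fun a b hab => (K4a h (∑ j, (f.appTop (a j)) • x j)).unique rfl hab
  have h2 : g' * g = 1 := by
    funext i
    refine uniq _ _ ?_
    rw [one_sum_smul, ← mul_sum_smul, ← h1 i, hg' i, app_pull_sum hr]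
    exact Finset.sum_congr rfl fun j _ => by rw [hτ j]
  have hdet : IsUnit g.det := by
    have := congrArg Matrix.det h2
    rw [Matrix.det_mul, Matrix.det_one] at this
    exact IsUnit.of_mul_eq_one_right _ this
  obtain ⟨w, hw⟩ := key h h' r hr g ⟨τ, hτ⟩
  have h3 : Van f (fun i => pullTop r (t i)) (qf c) := (van_iff_of_iso τ h1).mpr (van_qf h)
  rw [← hr] at h3
  have h4 : Van f' t (qf c) := van_of_pull r h3
  have h5 : Van f' x' (comp3 (qf c) g') := by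
    rw [← van_comp3_iff]
    have h6 : (fun i => ∑ j, (f'.appTop (g' i j)) • x' j) = t := funext fun i => (hg' i).symm
    rw [h6]
    exact h4
  obtain ⟨w', hw'⟩ := exists_eq_C_mul (isHomogeneous_comp3 (isHomogeneous_qf c) g')
    ((K4b h' _ (isHomogeneous_comp3 (isHomogeneous_qf c) g')).mp h5)
  have h7 : g * g' = 1 := mul_eq_one_comm.mp h2
  have h8 : qf c' = MvPolynomial.C (w * w') * qf c' := by
    have h9 : comp3 (comp3 (qf c') g) g' = comp3 (MvPolynomial.C w * qf c) g' := by rw [hw]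
    rw [comp3_comp3, h7, comp3_one, comp3_C_mul, hw', ← mul_assoc, ← MvPolynomial.C_mul] at h9
    exact h9
  have h10 := congrArg (MvPolynomial.coeff (Finsupp.single 0 2)) h8
  rw [MvPolynomial.coeff_C_mul, coeff_qf, mul_one] at h10
  exact ⟨hdet, w, IsUnit.of_mul_eq_one _ h10.symm, hw⟩

/-- Node E4: the isomorphism of a matrix is compatible with the maps to projective space. -/
theorem comp_eq_of_cov_aux (qT : T ⟶ Spec (CommRingCat.of k))
    (φ φ' : Fin (n + 1) → Fin 3 → Γ(T, ⊤)) (μ : C ⟶ CohB1.ProjSpace n k) (μ' : C' ⟶ CohB1.ProjSpace n k)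
    (hμ : μ ≫ CohB1.ProjSpace.toSpec n k = f ≫ qT) (hμ' : μ' ≫ CohB1.ProjSpace.toSpec n k = f' ≫ qT)
    (hs : GivenBy μ L (msec f x φ)) (hs' : GivenBy μ' L' (msec f' x' φ')) (r : C ⟶ C') (hr : r ≫ f' = f)
    (g : Matrix (Fin 3) (Fin 3) Γ(T, ⊤)) (hg : Cov f x x' r g) (hφ : ∀ l j, φ l j = ∑ i, φ' l i * g i j) :
    r ≫ μ' = μ := by
  obtain ⟨τ, hτ⟩ := hg
  have h1 := (hs'.comp r).of_iso τ
  have h2 : (fun l => τ.hom.app ⊤ (pullTop r (msec f' x' φ' l))) = msec f x φ := by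
    funext l
    rw [msec_eq, msec_eq, app_pull_sum hr]
    simp only [hτ, map_sum, map_mul, Finset.smul_sum, smul_smul, hφ, Finset.sum_smul]
    rw [Finset.sum_comm]
  rw [h2] at h1
  refine h1.unique hs ?_
  rw [Category.assoc, hμ', hμ, ← Category.assoc, hr]

set_option linter.unusedVariables false in
/-- Node E2, in the form of the plan. -/
theorem existsUnique_matrix (K4a : NodeK4a.{u}) (h : IsCon c f L x) (h' : IsCon c' f' L' x')
    (qT : T ⟶ Spec (CommRingCat.of k))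
    (φ φ' : Fin (n + 1) → Fin 3 → Γ(T, ⊤)) (μ : C ⟶ CohB1.ProjSpace n k) (μ' : C' ⟶ CohB1.ProjSpace n k)
    (hμ : μ ≫ CohB1.ProjSpace.toSpec n k = f ≫ qT) (hμ' : μ' ≫ CohB1.ProjSpace.toSpec n k = f' ≫ qT)
    (hs : GivenBy μ L (msec f x φ)) (hs' : GivenBy μ' L' (msec f' x' φ')) (r : C ⟶ C') (hr : r ≫ f' = f)
    (hi : IsIso r) (hrμ : r ≫ μ' = μ) :
    ∃! g : Matrix (Fin 3) (Fin 3) Γ(T, ⊤), Cov f x x' r g ∧ ∀ l j, φ l j = ∑ i, φ' l i * g i j :=
  existsUnique_matrix_aux K4a h φ φ' μ μ' hs hs' r hr hrμ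

set_option linter.unusedVariables false in
/-- Node E4, in the form of the plan. -/
theorem comp_eq_of_cov (h : IsCon c f L x) (h' : IsCon c' f' L' x') (qT : T ⟶ Spec (CommRingCat.of k))
    (φ φ' : Fin (n + 1) → Fin 3 → Γ(T, ⊤)) (μ : C ⟶ CohB1.ProjSpace n k) (μ' : C' ⟶ CohB1.ProjSpace n k)
    (hμ : μ ≫ CohB1.ProjSpace.toSpec n k = f ≫ qT) (hμ' : μ' ≫ CohB1.ProjSpace.toSpec n k = f' ≫ qT)
    (hs : GivenBy μ L (msec f x φ)) (hs' : GivenBy μ' L' (msec f' x' φ')) (r : C ⟶ C') (hr : r ≫ f' = f)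
    (g : Matrix (Fin 3) (Fin 3) Γ(T, ⊤)) (hg : Cov f x x' r g) (hφ : ∀ l j, φ l j = ∑ i, φ' l i * g i j) :
    r ≫ μ' = μ :=
  comp_eq_of_cov_aux qT φ φ' μ μ' hμ hμ' hs hs' r hr g hg hφ

end E

end K924.ConI
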