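import Groth.Agent.Fano.K714.ConicIrr2
import Groth.Agent.Fano.K714.TwDef

/-!
# Existence of twisted cubics on a smooth cubic threefold (node J3 of S16523)

On a smooth hyperplane section `W` (a cubic surface) take a line `N` and two disjoint lines `L₀ ∋ x₀`, `L₁ ∋ y₀`
meeting it. For `x = s x₀ + t x₁` in `L₀` and `y = s y₀ + t y₁'` in `L₁` the third point of the surface on the
line `xy` is `T(x,y,y) x - T(x,x,y) y`; both coefficients are divisible by `t` since `N` lies on the surface, and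
`t⁻¹` times it is a parametrised twisted cubic if the two remaining binary quadrics have no common zero, which
holds for a general `y₁'`.
-/

set_option autoImplicit false
universe u v

namespace K924.TwEx

open K656.Trilin Module K714.Surf K714.SurfGeo K714.Tw K714.Frames

section Alg

variable {k : Type u} [Field k] {V : Type v} [AddCommGroup V] [Module k V]

/-- A common annihilator of the cubics divisible by `α` or `β` is zero if the binary quadrics `α`, `β` have no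
common zero (with `α₀ ≠ 0`). -/
theorem eq_zero_of_no_common_root [IsAlgClosed k] {α₀ α₁ α₂ β₀ β₁ β₂ : k} (hα : α₀ ≠ 0)
    (hno : ∀ s : k, α₀ * s ^ 2 + α₁ * s + α₂ = 0 → β₀ * s ^ 2 + β₁ * s + β₂ ≠ 0) {z₀ z₁ z₂ z₃ : k}
    (e1 : α₀ * z₀ + α₁ * z₁ + α₂ * z₂ = 0) (e2 : α₀ * z₁ + α₁ * z₂ + α₂ * z₃ = 0)
    (e3 : β₀ * z₀ + β₁ * z₁ + β₂ * z₂ = 0) (e4 : β₀ * z₁ + β₁ * z₂ + β₂ * z₃ = 0) :
    z₀ = 0 ∧ z₁ = 0 ∧ z₂ = 0 ∧ z₃ = 0 := by
  obtain ⟨r, hr⟩ := IsAlgClosed.exists_root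
    (Polynomial.C α₀ * Polynomial.X ^ 2 + Polynomial.C α₁ * Polynomial.X + Polynomial.C α₂)
    (by rw [Polynomial.degree_quadratic hα]; norm_num)
  have hr' : α₀ * r ^ 2 + α₁ * r + α₂ = 0 := by
    simpa only [Polynomial.IsRoot, Polynomial.eval_add, Polynomial.eval_mul, Polynomial.eval_C,
      Polynomial.eval_pow, Polynomial.eval_X] using hr
  -- the other root
  set r' : k := -(α₁ / α₀) - r with hr'd
  have hs : α₁ = -(α₀ * (r + r')) := by
    rw [hr'd]; field_simp; ring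
  have hp : α₂ = α₀ * (r * r') := by
    have : α₂ = -(α₀ * r ^ 2 + α₁ * r) := by linear_combination hr'
    rw [this, hs]; ring
  have hr2 : α₀ * r' ^ 2 + α₁ * r' + α₂ = 0 := by rw [hs, hp]; ring
  have hb := hno r hr'
  have hb' := hno r' hr2
  -- `u_i = z_i - r' z_{i+1}`
  have u0 : z₀ - r' * z₁ = r * (z₁ - r' * z₂) := by
    apply mul_left_cancel₀ hα
    rw [hs, hp] at e1
    linear_combination e1
  have u1 : z₁ - r' * z₂ = r * (z₂ - r' * z₃) := by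
    apply mul_left_cancel₀ hα
    rw [hs, hp] at e2
    linear_combination e2
  have u2 : (z₂ - r' * z₃) * (β₀ * r ^ 2 + β₁ * r + β₂) = 0 := by
    linear_combination e3 - r' * e4 - β₀ * u0 - (β₀ * r + β₁) * u1
  have v2 : z₂ - r' * z₃ = 0 := (mul_eq_zero.1 u2).resolve_right hb
  have v1 : z₁ - r' * z₂ = 0 := by rw [u1, v2, mul_zero]
  have v0 : z₀ - r' * z₁ = 0 := by rw [u0, v1, mul_zero]
  have w3 : z₃ * (β₀ * r' ^ 2 + β₁ * r' + β₂) = 0 := by
    linear_combination e4 - β₀ * v1 - (β₀ * r' + β₁) * v2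
  have x3 : z₃ = 0 := (mul_eq_zero.1 w3).resolve_right hb'
  have x2 : z₂ = 0 := by rw [x3] at v2; linear_combination v2
  have x1 : z₁ = 0 := by rw [x2] at v1; linear_combination v1
  have x0 : z₀ = 0 := by rw [x1] at v0; linear_combination v0
  exact ⟨x0, x1, x2, x3⟩

/-- The coefficients of the third point, divided by `t`. -/
def tc (x₀ x₁ y₀ y₁ : V) (α₀ α₁ α₂ β₀ β₁ β₂ : k) : Fin 4 → V :=
  ![α₀ • x₀ - β₀ • y₀, α₁ • x₀ + α₀ • x₁ - (β₁ • y₀ + β₀ • y₁),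
    α₂ • x₀ + α₁ • x₁ - (β₂ • y₀ + β₁ • y₁), α₂ • x₁ - β₂ • y₁]

theorem tpt_tc (x₀ x₁ y₀ y₁ : V) (α₀ α₁ α₂ β₀ β₁ β₂ s t : k) :
    tpt (tc x₀ x₁ y₀ y₁ α₀ α₁ α₂ β₀ β₁ β₂) s t =
      (α₀ * s ^ 2 + α₁ * (s * t) + α₂ * t ^ 2) • (s • x₀ + t • x₁) +
        (-(β₀ * s ^ 2 + β₁ * (s * t) + β₂ * t ^ 2)) • (s • y₀ + t • y₁) := by
  simp only [tpt, tc, Matrix.cons_val]
  module

theorem indep_tc [IsAlgClosed k] {x₀ x₁ y₀ y₁ : V} {α₀ α₁ α₂ β₀ β₁ β₂ : k} (hα : α₀ ≠ 0)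
    (hno : ∀ s : k, α₀ * s ^ 2 + α₁ * s + α₂ = 0 → β₀ * s ^ 2 + β₁ * s + β₂ ≠ 0)
    (hli : ∀ a b c d : k, a • x₀ + b • x₁ + c • y₀ + d • y₁ = 0 → a = 0 ∧ b = 0 ∧ c = 0 ∧ d = 0) :
    LinearIndependent k (tc x₀ x₁ y₀ y₁ α₀ α₁ α₂ β₀ β₁ β₂) := by
  rw [Fintype.linearIndependent_iff]
  intro z hz
  rw [Fin.sum_univ_four] at hz
  simp only [tc, Matrix.cons_val] at hz
  obtain ⟨h1, h2, h3, h4⟩ := hli (α₀ * z 0 + α₁ * z 1 + α₂ * z 2) (α₀ * z 1 + α₁ * z 2 + α₂ * z 3)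
    (-(β₀ * z 0 + β₁ * z 1 + β₂ * z 2)) (-(β₀ * z 1 + β₁ * z 2 + β₂ * z 3)) (by
      rw [← hz]; module)
  obtain ⟨y0, y1, y2, y3⟩ := eq_zero_of_no_common_root hα hno h1 h2 (neg_eq_zero.1 h3) (neg_eq_zero.1 h4)
  intro i
  fin_cases i
  · exact y0
  · exact y1
  · exact y2
  · exact y3

end Alg

variable {k : Type u} [Field k] [IsAlgClosed k] [CharZero k]
  {T : (Fin 5 → k) →ₗ[k] (Fin 5 → k) →ₗ[k] (Fin 5 → k) →ₗ[k] k}

/-- Two disjoint lines meeting a third one, on a smooth cubic surface. -/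
theorem exists_lines (hT : IsSym3 T) {W : Submodule k (Fin 5 → k)} (hW : finrank k ↥W = 4)
    (hsm : SmoothOn T W) :
    ∃ N L₀ L₁ : Submodule k (Fin 5 → k), IsLine T N ∧ IsLine T L₀ ∧ IsLine T L₁ ∧ N ≤ W ∧ L₀ ≤ W ∧ L₁ ≤ W ∧
      N ⊓ L₀ ≠ ⊥ ∧ N ⊓ L₁ ≠ ⊥ ∧ L₀ ⊓ L₁ = ⊥ := by
  obtain ⟨N, hN, hNW⟩ := K714.Five.exists_line T hW
  have h5 := K714.Five.five hT hW hsm
  obtain ⟨y, z, htri, hne⟩ := h5 ⟨N, hN, hNW⟩
  obtain ⟨-, P, hP, hNP, h0P, -⟩ := id (htri 0)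
  obtain ⟨-, P', hP', hNP', h1P', -⟩ := id (htri 1)
  have m0 : N ⊓ (y 0).1 ≠ ⊥ := meet_of_le hN (y 0).2.1 hP hNP h0P
  have m1 : N ⊓ (y 1).1 ≠ ⊥ := meet_of_le hN (y 1).2.1 hP' hNP' h1P'
  refine ⟨N, (y 0).1, (y 1).1, hN, (y 0).2.1, (y 1).2.1, hNW, (y 0).2.2, (y 1).2.2, m0, m1, ?_⟩
  by_contra hm
  have hne01 := hne 1 0 (by decide)
  have e1 : (∃ u, (geo hT hW hsm h5).tri (y 1) ⟨N, hN, hNW⟩ u) := by
    refine ⟨z 1, ?_⟩
    exact (geo hT hW hsm h5).swap12 (htri 1)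
  have e2 : (∃ u, (geo hT hW hsm h5).tri (y 1) (y 0) u) := by
    obtain ⟨u, hu, hu'⟩ := (inc_iff hT hW hsm (y 1).2.1 (y 0).2.1 (y 1).2.2 (y 0).2.2).2
      ⟨fun h => hne01.1 (Subtype.ext h), by rw [inf_comm]; exact hm⟩
    exact ⟨⟨u, hu⟩, hu'⟩
  exact (geo hT hW hsm h5).meet_unique (x := ⟨N, hN, hNW⟩) (htri 0) hne01.2 e1 e2

omit [IsAlgClosed k] [CharZero k] in
/-- Adapted bases of the lines `L₀`, `L₁`. -/
theorem exists_basis_of_mem {L : Submodule k (Fin 5 → k)} (hL : finrank k ↥L = 2) {x₀ : Fin 5 → k} (hx : x₀ ∈ L)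
    (hx0 : x₀ ≠ 0) : ∃ x₁ ∈ L, LinearIndependent k ![x₀, x₁] ∧ L = Submodule.span k {x₀, x₁} := by
  obtain ⟨x₁, hx₁, hn⟩ : ∃ x₁ ∈ L, x₁ ∉ Submodule.span k {x₀} := by
    by_contra hcon
    push Not at hcon
    have := Submodule.finrank_mono (show L ≤ Submodule.span k {x₀} from fun u hu => hcon u hu)
    rw [hL, finrank_span_singleton hx0] at this
    omega
  have hlin : LinearIndependent k ![x₀, x₁] := by
    rw [LinearIndependent.pair_iff' hx0]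
    intro c hc
    exact hn (hc ▸ Submodule.smul_mem _ _ (Submodule.mem_span_singleton_self x₀))
  refine ⟨x₁, hx₁, hlin, ?_⟩
  have := finrank_span_eq_card hlin
  rw [Matrix.range_cons, Matrix.range_cons, Matrix.range_empty, Set.union_empty,
    Set.singleton_union, Fintype.card_fin] at this
  symm
  refine Submodule.eq_of_le_of_finrank_eq ?_ (by rw [hL]; exact this)
  rw [Submodule.span_le]
  rintro u (rfl | hu)
  · exact hx
  · rw [Set.mem_singleton_iff.mp hu]; exact hx₁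

/-- **Existence of twisted cubics** on a smooth cubic threefold. -/
theorem tc_nonempty (hT : IsSym3 T) (hsm : SmoothOn T ⊤) : (TC T).Nonempty := by
  classical
  have hinf : Infinite k := IsAlgClosed.instInfinite
  obtain ⟨W, -, -, hW, hsmW, -, -, -⟩ := K714.ConicIrr.exists_frame_section hT hsm
  obtain ⟨N, L₀, L₁, hN, hL₀, hL₁, hNW, hLW₀, hLW₁, m0, m1, hdis⟩ := exists_lines hT hW hsmW
  obtain ⟨x₀, hx₀, hx₀0⟩ := Submodule.exists_mem_ne_zero_of_ne_bot m0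
  obtain ⟨y₀, hy₀, hy₀0⟩ := Submodule.exists_mem_ne_zero_of_ne_bot m1
  obtain ⟨x₁, hx₁, hxli, hLx⟩ := exists_basis_of_mem hL₀.1 hx₀.2 hx₀0
  obtain ⟨y₁, hy₁, hyli, hLy⟩ := exists_basis_of_mem hL₁.1 hy₀.2 hy₀0
  rw [LinearIndependent.pair_iff] at hxli hyli
  -- the basis of `W`
  have hli : ∀ a b c d : k, a • x₀ + b • x₁ + (c • y₀ + d • y₁) = 0 → a = 0 ∧ b = 0 ∧ c = 0 ∧ d = 0 := by
    intro a b c d h
    have h1 : a • x₀ + b • x₁ ∈ L₀ ⊓ L₁ := by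
      refine ⟨L₀.add_mem (L₀.smul_mem _ hx₀.2) (L₀.smul_mem _ hx₁), ?_⟩
      rw [eq_neg_of_add_eq_zero_left h]
      exact L₁.neg_mem (L₁.add_mem (L₁.smul_mem _ hy₀.2) (L₁.smul_mem _ hy₁))
    rw [hdis, Submodule.mem_bot] at h1
    have h2 : c • y₀ + d • y₁ = 0 := by rw [h1, zero_add] at h; exact h
    exact ⟨(hxli _ _ h1).1, (hxli _ _ h1).2, (hyli _ _ h2).1, (hyli _ _ h2).2⟩
  have hWspan : ∀ w ∈ W, ∃ u ∈ L₀, ∃ v ∈ L₁, w = u + v := by
    intro w hw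
    have h1 := Submodule.finrank_sup_add_finrank_inf_eq L₀ L₁
    rw [hdis, finrank_bot, hL₀.1, hL₁.1] at h1
    have h2 : L₀ ⊔ L₁ = W := Submodule.eq_of_le_of_finrank_eq (sup_le hLW₀ hLW₁) (by rw [hW]; omega)
    rw [← h2] at hw
    obtain ⟨u, hu, v, hv, h⟩ := Submodule.mem_sup.1 hw
    exact ⟨u, hu, v, hv, h.symm⟩
  -- `N` is on the surface
  have n1 : T x₀ x₀ y₀ = 0 := hT.eq_zero_of_diag _ hN.2 hx₀.1 hx₀.1 hy₀.1
  have n2 : T x₀ y₀ y₀ = 0 := hT.eq_zero_of_diag _ hN.2 hx₀.1 hy₀.1 hy₀.1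
  -- smoothness at `y₀`
  have n3 : T x₁ y₀ y₀ ≠ 0 := by
    intro h
    obtain ⟨w, hw, hne⟩ := hsmW y₀ (hLW₁ hy₀.2) hy₀0 (hL₁.2 _ hy₀.2)
    apply hne
    obtain ⟨u, hu, v, hv, rfl⟩ := hWspan w hw
    rw [hLx] at hu
    obtain ⟨a, b, rfl⟩ := Submodule.mem_span_pair.1 hu
    have h1 : T y₀ y₀ v = 0 := hT.eq_zero_of_diag _ hL₁.2 hy₀.2 hy₀.2 hv
    have h2 : T y₀ y₀ x₀ = 0 := by rw [hT.rot', n2]
    have h3 : T y₀ y₀ x₁ = 0 := by rw [hT.rot', h]
    simp only [map_add, map_smul, h1, h2, h3, smul_eq_mul, mul_zero, add_zero]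
  -- the choice of `μ`
  obtain ⟨μ, hμ0, hμ⟩ : ∃ μ : k, μ ≠ 0 ∧ 2 * μ * T x₀ y₀ y₁ + T x₁ y₀ y₀ ≠ 0 := by
    by_cases h : T x₀ y₀ y₁ = 0
    · exact ⟨1, one_ne_zero, by rw [h]; simpa using n3⟩
    · obtain ⟨μ, hμ⟩ := Infinite.exists_notMem_finset ({0, -(T x₁ y₀ y₀ / (2 * T x₀ y₀ y₁))} : Finset k)
      simp only [Finset.mem_insert, Finset.mem_singleton, not_or] at hμ
      refine ⟨μ, hμ.1, fun h1 => hμ.2 ?_⟩
      field_simp
      linear_combination h1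
  -- the bad values of `ν`
  let y' : k → (Fin 5 → k) := fun ν => μ • y₁ + ν • y₀
  have hy' : ∀ ν, y' ν ∈ L₁ := fun ν => L₁.add_mem (L₁.smul_mem _ hy₁) (L₁.smul_mem _ hy₀.2)
  let B : Set k := {ν | ∃ s : k, T (s • x₀ + x₁) (s • x₀ + x₁) (s • y₀ + y' ν) = 0 ∧
    T (s • x₀ + x₁) (s • y₀ + y' ν) (s • y₀ + y' ν) = 0}
  have hxne : ∀ s : k, s • x₀ + x₁ ≠ 0 := by
    intro s h
    have := (hxli s 1 (by rw [one_smul]; exact h)).2
    exact one_ne_zero this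
  have hyne : ∀ s ν : k, s • y₀ + y' ν ≠ 0 := by
    intro s ν h
    have := (hyli (s + ν) μ (by rw [← h]; simp only [y']; module)).2
    exact hμ0 this
  have hxm : ∀ s : k, s • x₀ + x₁ ∈ L₀ := fun s => L₀.add_mem (L₀.smul_mem _ hx₀.2) hx₁
  have hym : ∀ s ν : k, s • y₀ + y' ν ∈ L₁ := fun s ν => L₁.add_mem (L₁.smul_mem _ hy₀.2) (hy' ν)
  have hB : B.Finite := by
    have hfin := K714.ConicIrr.lines_finite hT hW hsmW
    have key : ∀ ν : B, ∃ s : k, IsLine T (Submodule.span k {s • x₀ + x₁, s • y₀ + y' ν.1}) := by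
      rintro ⟨ν, s, h1, h2⟩
      refine ⟨s, ?_⟩
      have hp : LinearIndependent k ![s • x₀ + x₁, s • y₀ + y' ν] := by
        rw [LinearIndependent.pair_iff]
        intro a b hab
        have h3 : a • (s • x₀ + x₁) ∈ L₀ ⊓ L₁ := by
          refine ⟨L₀.smul_mem _ (hxm s), ?_⟩
          rw [eq_neg_of_add_eq_zero_left hab]
          exact L₁.neg_mem (L₁.smul_mem _ (hym s ν))
        rw [hdis, Submodule.mem_bot] at h3
        have h4 : b • (s • y₀ + y' ν) = 0 := by rw [h3, zero_add] at hab; exact hab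
        exact ⟨(smul_eq_zero.1 h3).resolve_right (hxne s), (smul_eq_zero.1 h4).resolve_right (hyne s ν)⟩
      exact (K714.Frames.isLine_span_iff hT (p := (s • x₀ + x₁, s • y₀ + y' ν)) hp).2
        ⟨hp, hL₀.2 _ (hxm s), h1, h2, hL₁.2 _ (hym s ν)⟩
    choose σ hσ using key
    have hle : ∀ ν : B, Submodule.span k {σ ν • x₀ + x₁, σ ν • y₀ + y' ν.1} ≤ W := by
      intro ν
      rw [Submodule.span_le]
      rintro u (rfl | hu)
      · exact hLW₀ (hxm _)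
      · rw [Set.mem_singleton_iff.mp hu]; exact hLW₁ (hym _ _)
    have hinj : Function.Injective (fun ν : B => Submodule.span k {σ ν • x₀ + x₁, σ ν • y₀ + y' ν.1}) := by
      intro ν ν' h
      simp only at h
      set M := Submodule.span k {σ ν • x₀ + x₁, σ ν • y₀ + y' ν.1} with hM
      have a1 : σ ν • x₀ + x₁ ∈ M := Submodule.subset_span (by simp)
      have a2 : σ ν • y₀ + y' ν.1 ∈ M := Submodule.subset_span (by simp)
      have a3 : σ ν' • x₀ + x₁ ∈ M := by rw [h]; exact Submodule.subset_span (by simp)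
      have a4 : σ ν' • y₀ + y' ν'.1 ∈ M := by rw [h]; exact Submodule.subset_span (by simp)
      -- `M ≠ L₀`, `M ≠ L₁`
      have hML0 : ¬ L₀ ≤ M := by
        intro hle
        have h1 : L₀ = M := Submodule.eq_of_le_of_finrank_eq hle (by rw [hL₀.1, (hσ ν).1])
        have h2 : σ ν • y₀ + y' ν.1 ∈ L₀ ⊓ L₁ := ⟨h1 ▸ a2, hym _ _⟩
        rw [hdis, Submodule.mem_bot] at h2
        exact hyne _ _ h2
      have hML1 : ¬ L₁ ≤ M := by
        intro hle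
        have h1 : L₁ = M := Submodule.eq_of_le_of_finrank_eq hle (by rw [hL₁.1, (hσ ν).1])
        have h2 : σ ν • x₀ + x₁ ∈ L₀ ⊓ L₁ := ⟨hxm _, h1 ▸ a1⟩
        rw [hdis, Submodule.mem_bot] at h2
        exact hxne _ h2
      have hss : σ ν = σ ν' := by
        by_contra hss
        apply hML0
        have h1 : (σ ν - σ ν') • x₀ ∈ M := by
          have : (σ ν - σ ν') • x₀ = (σ ν • x₀ + x₁) - (σ ν' • x₀ + x₁) := by module
          rw [this]; exact M.sub_mem a1 a3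
        have h2 : x₀ ∈ M := by
          have := M.smul_mem (σ ν - σ ν')⁻¹ h1
          rwa [smul_smul, inv_mul_cancel₀ (sub_ne_zero.2 hss), one_smul] at this
        have h3 : x₁ ∈ M := by
          have : x₁ = (σ ν • x₀ + x₁) - σ ν • x₀ := by module
          rw [this]; exact M.sub_mem a1 (M.smul_mem _ h2)
        rw [hLx, Submodule.span_le]
        rintro u (rfl | hu)
        · exact h2
        · rw [Set.mem_singleton_iff.mp hu]; exact h3
      apply Subtype.ext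
      by_contra hνν
      apply hML1
      have h1 : (ν.1 - ν'.1) • y₀ ∈ M := by
        have : (ν.1 - ν'.1) • y₀ = (σ ν • y₀ + y' ν.1) - (σ ν' • y₀ + y' ν'.1) := by
          rw [hss]; simp only [y']; module
        rw [this]; exact M.sub_mem a2 a4
      have h2 : y₀ ∈ M := by
        have := M.smul_mem (ν.1 - ν'.1)⁻¹ h1
        rwa [smul_smul, inv_mul_cancel₀ (sub_ne_zero.2 hνν), one_smul] at this
      have h3 : μ • y₁ ∈ M := by
        have : μ • y₁ = (σ ν • y₀ + y' ν.1) - (σ ν + ν.1) • y₀ := by simp only [y']; module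
        rw [this]; exact M.sub_mem a2 (M.smul_mem _ h2)
      have h4 : y₁ ∈ M := by
        have := M.smul_mem μ⁻¹ h3
        rwa [smul_smul, inv_mul_cancel₀ hμ0, one_smul] at this
      rw [hLy, Submodule.span_le]
      rintro u (rfl | hu)
      · exact h2
      · rw [Set.mem_singleton_iff.mp hu]; exact h4
    have : Finite B := by
      have hfin' : Finite {U : Submodule k (Fin 5 → k) | IsLine T U ∧ U ≤ W} := hfin.to_subtype
      exact Finite.of_injective (β := {U : Submodule k (Fin 5 → k) | IsLine T U ∧ U ≤ W})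
        (fun ν => ⟨_, hσ ν, hle ν⟩) (fun ν ν' h => hinj (congrArg Subtype.val h))
    exact Set.toFinite B
  obtain ⟨ν, hν⟩ := hB.exists_notMem
  -- the two binary quadrics
  set y := y' ν with hyd
  have q1 : ∀ s t : k, T (s • x₀ + t • x₁) (s • x₀ + t • x₁) (s • y₀ + t • y) =
      t * ((T x₀ x₀ y + 2 * T x₀ x₁ y₀) * s ^ 2 + (2 * T x₀ x₁ y + T x₁ x₁ y₀) * (s * t) +
        T x₁ x₁ y * t ^ 2) := by
    intro s t
    rw [hT.sq_smul_add_smul]
    simp only [map_add, map_smul, smul_eq_mul, n1]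
    ring
  have q2 : ∀ s t : k, T (s • x₀ + t • x₁) (s • y₀ + t • y) (s • y₀ + t • y) =
      t * ((2 * T x₀ y₀ y + T x₁ y₀ y₀) * s ^ 2 + (T x₀ y y + 2 * T x₁ y₀ y) * (s * t) +
        T x₁ y y * t ^ 2) := by
    intro s t
    rw [hT.rot, hT.sq_smul_add_smul]
    simp only [map_add, map_smul, smul_eq_mul]
    have r1 : T y₀ y₀ x₀ = 0 := by rw [hT.rot', n2]
    have r2 : T y₀ y₀ x₁ = T x₁ y₀ y₀ := hT.rot' _ _ _
    have r3 : T y₀ y x₀ = T x₀ y₀ y := hT.rot' _ _ _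
    have r4 : T y₀ y x₁ = T x₁ y₀ y := hT.rot' _ _ _
    have r5 : T y y x₀ = T x₀ y y := hT.rot' _ _ _
    have r6 : T y y x₁ = T x₁ y y := hT.rot' _ _ _
    rw [r1, r2, r3, r4, r5, r6]
    ring
  have hα : 2 * T x₀ y₀ y + T x₁ y₀ y₀ ≠ 0 := by
    have : 2 * T x₀ y₀ y + T x₁ y₀ y₀ = 2 * μ * T x₀ y₀ y₁ + T x₁ y₀ y₀ := by
      simp only [hyd, y', map_add, map_smul, smul_eq_mul, n2]
      ring
    rw [this]; exact hμ
  refine ⟨tc x₀ x₁ y₀ y (2 * T x₀ y₀ y + T x₁ y₀ y₀) (T x₀ y y + 2 * T x₁ y₀ y) (T x₁ y y)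
    (T x₀ x₀ y + 2 * T x₀ x₁ y₀) (2 * T x₀ x₁ y + T x₁ x₁ y₀) (T x₁ x₁ y), ?_, ?_⟩
  · refine indep_tc hα ?_ ?_
    · intro s h1 h2
      apply hν
      refine ⟨s, ?_, ?_⟩
      · have := q1 s 1
        rw [one_smul, one_smul] at this
        rw [this]
        linear_combination h2
      · have := q2 s 1
        rw [one_smul, one_smul] at this
        rw [this]
        linear_combination h1
    · intro a b c d h
      obtain ⟨h1, h2, h3, h4⟩ := hli a b (c + d * ν) (d * μ) (by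
        rw [← h]; simp only [hyd, y']; module)
      have hd : d = 0 := (mul_eq_zero.1 h4).resolve_right hμ0
      refine ⟨h1, h2, ?_, hd⟩
      rw [hd] at h3
      linear_combination h3
  · intro s t
    rw [tpt_tc, hT.cube_smul_add_smul, hL₀.2 _ (L₀.add_mem (L₀.smul_mem _ hx₀.2) (L₀.smul_mem _ hx₁)),
      hL₁.2 _ (L₁.add_mem (L₁.smul_mem _ hy₀.2) (L₁.smul_mem _ (hy' ν))), q1, q2]
    ring

end K924.TwEx
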