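import Groth.Agent.Fano.K745.ConDef


/-!
# Forms vanishing at sections: isomorphisms, linear substitutions, pull back
-/

set_option autoImplicit false

universe u

open CategoryTheory CategoryTheory.Limits AlgebraicGeometry

namespace K924.ConVan

open K390.PnSec Groth.Agent.Fdesc.LocGen Groth.Agent.Dix.ProjProper
open K188.LineDef K745.ConDef

section Alg

variable {A B : Type u} [CommRing A] [CommRing B]

theorem eval₂_lin3 (ρ : A →+* B) (b : Fin 3 → B) (v : Fin 3 → A) :
    MvPolynomial.eval₂ ρ b (lin3 v) = ∑ j, ρ (v j) * b j := by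
  simp only [lin3, MvPolynomial.eval₂_sum, MvPolynomial.eval₂_mul, MvPolynomial.eval₂_C, MvPolynomial.eval₂_X]

theorem eval₂_comp3 (ρ : A →+* B) (b : Fin 3 → B) (F : MvPolynomial (Fin 3) A) (g : Matrix (Fin 3) (Fin 3) A) :
    MvPolynomial.eval₂ ρ b (comp3 F g) = MvPolynomial.eval₂ ρ (fun i => ∑ j, ρ (g i j) * b j) F := by
  have h : (MvPolynomial.eval₂Hom ρ b).comp (MvPolynomial.aeval (fun i => lin3 (g i)) :
      MvPolynomial (Fin 3) A →ₐ[A] MvPolynomial (Fin 3) A).toRingHom =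
      MvPolynomial.eval₂Hom ρ (fun i => ∑ j, ρ (g i j) * b j) := by
    apply MvPolynomial.ringHom_ext
    · intro a
      simp
    · intro i
      simp [eval₂_lin3]
  exact congr($h F)

theorem isHomogeneous_lin3 (v : Fin 3 → A) : (lin3 v).IsHomogeneous 1 := by
  refine MvPolynomial.IsHomogeneous.sum _ _ _ fun i _ => ?_
  simpa using (MvPolynomial.isHomogeneous_C (Fin 3) (v i)).mul (MvPolynomial.isHomogeneous_X A i)

theorem isHomogeneous_comp3 {F : MvPolynomial (Fin 3) A} {m : ℕ} (hF : F.IsHomogeneous m)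
    (g : Matrix (Fin 3) (Fin 3) A) : (comp3 F g).IsHomogeneous m := by
  have := hF.eval₂ (algebraMap A (MvPolynomial (Fin 3) A)) (fun i => lin3 (g i))
    (fun r => MvPolynomial.isHomogeneous_C (Fin 3) r) (fun i => isHomogeneous_lin3 (g i))
  rw [one_mul] at this
  exact this

theorem isHomogeneous_qf (c : Fin 5 → A) : (qf c).IsHomogeneous 2 := by
  have hX : ∀ i j : Fin 3, (MvPolynomial.X i * MvPolynomial.X j : MvPolynomial (Fin 3) A).IsHomogeneous 2 :=
    fun i j => (MvPolynomial.isHomogeneous_X A i).mul (MvPolynomial.isHomogeneous_X A j)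
  have hC : ∀ (a : A) (P : MvPolynomial (Fin 3) A), P.IsHomogeneous 2 →
      (MvPolynomial.C a * P).IsHomogeneous 2 := fun a P h => by
    simpa using (MvPolynomial.isHomogeneous_C (Fin 3) a).mul h
  have h2 : ∀ i : Fin 3, (MvPolynomial.X i ^ 2 : MvPolynomial (Fin 3) A).IsHomogeneous 2 := fun i => by
    rw [pow_two]; exact hX i i
  exact (((((h2 0).add (hC _ _ (hX 0 1))).add (hC _ _ (hX 0 2))).add (hC _ _ (h2 1))).add
    (hC _ _ (hX 1 2))).add (hC _ _ (h2 2))

theorem comp3_comp3 (F : MvPolynomial (Fin 3) A) (g h : Matrix (Fin 3) (Fin 3) A) :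
    comp3 (comp3 F g) h = comp3 F (g * h) := by
  have h1 : (MvPolynomial.aeval (fun i => lin3 (h i)) : MvPolynomial (Fin 3) A →ₐ[A] MvPolynomial (Fin 3) A).comp
      (MvPolynomial.aeval (fun i => lin3 (g i))) = MvPolynomial.aeval (fun i => lin3 ((g * h) i)) := by
    apply MvPolynomial.algHom_ext
    intro i
    simp only [AlgHom.comp_apply, MvPolynomial.aeval_X, lin3, map_sum, map_mul, MvPolynomial.algHom_C,
      MvPolynomial.algebraMap_eq, Matrix.mul_apply, Finset.sum_mul, Finset.mul_sum]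
    rw [Finset.sum_comm]
    refine Finset.sum_congr rfl fun k _ => Finset.sum_congr rfl fun j _ => ?_
    ring
  exact congr($h1 F)

theorem comp3_one (F : MvPolynomial (Fin 3) A) : comp3 F 1 = F := by
  have h1 : (MvPolynomial.aeval (fun i => lin3 ((1 : Matrix (Fin 3) (Fin 3) A) i)) :
      MvPolynomial (Fin 3) A →ₐ[A] MvPolynomial (Fin 3) A) = AlgHom.id _ _ := by
    apply MvPolynomial.algHom_ext
    intro i
    simp [lin3, Matrix.one_apply]
  exact congr($h1 F)

theorem comp3_C_mul (a : A) (F : MvPolynomial (Fin 3) A) (g : Matrix (Fin 3) (Fin 3) A) :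
    comp3 (MvPolynomial.C a * F) g = MvPolynomial.C a * comp3 F g := by
  simp [comp3]

theorem coeff_qf (c : Fin 5 → A) : MvPolynomial.coeff (Finsupp.single 0 2) (qf c) = 1 := by
  have h1 : ∀ i j : Fin 3, (MvPolynomial.X i * MvPolynomial.X j : MvPolynomial (Fin 3) A) =
      MvPolynomial.monomial (Finsupp.single i 1 + Finsupp.single j 1) 1 := by
    intro i j
    simp [MvPolynomial.X, MvPolynomial.monomial_mul]
  have e1 : (Finsupp.single (0 : Fin 3) 1 + Finsupp.single 1 1 : Fin 3 →₀ ℕ) ≠ Finsupp.single 0 2 := by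
    intro h; have := DFunLike.congr_fun h 1; simp at this
  have e2 : (Finsupp.single (0 : Fin 3) 1 + Finsupp.single 2 1 : Fin 3 →₀ ℕ) ≠ Finsupp.single 0 2 := by
    intro h; have := DFunLike.congr_fun h 2; simp at this
  have e3 : (Finsupp.single (1 : Fin 3) 1 + Finsupp.single 2 1 : Fin 3 →₀ ℕ) ≠ Finsupp.single 0 2 := by
    intro h; have := DFunLike.congr_fun h 1; simp at this
  have e4 : (Finsupp.single (1 : Fin 3) 2 : Fin 3 →₀ ℕ) ≠ Finsupp.single 0 2 := by
    intro h; have := DFunLike.congr_fun h 1; simp at this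
  have e5 : (Finsupp.single (2 : Fin 3) 2 : Fin 3 →₀ ℕ) ≠ Finsupp.single 0 2 := by
    intro h; have := DFunLike.congr_fun h 2; simp at this
  rw [qf]
  simp only [MvPolynomial.coeff_add, MvPolynomial.coeff_C_mul, h1, MvPolynomial.coeff_monomial,
    MvPolynomial.X_pow_eq_monomial, if_neg e1, if_neg e2, if_neg e3, if_neg e4, if_neg e5]
  simp

/-- A form of degree two divisible by `qf c` is a multiple of it by a constant. -/
theorem exists_eq_C_mul {c : Fin 5 → A} {F : MvPolynomial (Fin 3) A} (hF : F.IsHomogeneous 2) (h : qf c ∣ F) :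
    ∃ w : A, F = MvPolynomial.C w * qf c := by
  obtain ⟨H, hH⟩ := h
  refine ⟨MvPolynomial.coeff 0 H, ?_⟩
  have h1 : MvPolynomial.homogeneousComponent 2 F = F := by
    rw [MvPolynomial.homogeneousComponent_of_mem (hF : F ∈ MvPolynomial.homogeneousSubmodule (Fin 3) A 2), if_pos rfl]
  have h2 : ∀ H : MvPolynomial (Fin 3) A, MvPolynomial.homogeneousComponent 2 (qf c * H) =
      qf c * MvPolynomial.homogeneousComponent 0 H := by
    intro H
    conv_lhs => rw [← MvPolynomial.sum_homogeneousComponent H, Finset.mul_sum, map_sum]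
    have h3 : ∀ i, MvPolynomial.homogeneousComponent 2 (qf c * MvPolynomial.homogeneousComponent i H) =
        if i = 0 then qf c * MvPolynomial.homogeneousComponent 0 H else 0 := by
      intro i
      have h4 : (qf c * MvPolynomial.homogeneousComponent i H) ∈ MvPolynomial.homogeneousSubmodule (Fin 3) A (2 + i) :=
        (isHomogeneous_qf c).mul (MvPolynomial.homogeneousComponent_isHomogeneous i H)
      rw [MvPolynomial.homogeneousComponent_of_mem h4]
      by_cases hi : i = 0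
      · subst hi; simp
      · rw [if_neg hi, if_neg (by omega)]
    rw [Finset.sum_congr rfl fun i _ => h3 i, Finset.sum_ite_eq' , if_pos (by simp)]
  rw [← h1, hH, h2, MvPolynomial.homogeneousComponent_zero, mul_comm]

end Alg

section Van

variable {T C Y : Scheme.{u}} {f : C ⟶ T} {L : C.Modules} {m : ℕ}

theorem isInvertible_of_iso {L L' : C.Modules} (e : L ≅ L') (hL : PicF.IsInvertible L) : PicF.IsInvertible L' := by
  rw [isInvertible_iff] at hL ⊢
  intro x
  obtain ⟨U, s, hx, hs⟩ := hL x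
  exact ⟨U, _, hx, hs.app e.hom⟩

/-- Vanishing of a form is invariant under isomorphisms of modules. -/
theorem van_of_iso {L' : C.Modules} {x : Fin m → Γ(L, ⊤)} {F : MvPolynomial (Fin m) Γ(T, ⊤)}
    (h : Van f x F) (τ : L ≅ L') : Van f (fun i => τ.hom.app ⊤ (x i)) F := by
  intro V e a he ha
  refine h V (τ.inv.app V e) a (he.app τ.inv) fun i => ?_
  have h1 : τ.inv.app V (τ.hom.app V (res L le_top (x i))) = res L le_top (x i) :=
    congr(($(τ.hom_inv_id).app V) (res L le_top (x i)))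
  rw [← h1, app_res τ.hom, ha i]
  exact Scheme.Modules.Hom.app_smul τ.inv (a i) e

theorem van_iff_of_iso {L' : C.Modules} {x : Fin m → Γ(L, ⊤)} {x' : Fin m → Γ(L', ⊤)}
    {F : MvPolynomial (Fin m) Γ(T, ⊤)} (τ : L ≅ L') (hx : ∀ i, τ.hom.app ⊤ (x i) = x' i) :
    Van f x F ↔ Van f x' F := by
  obtain rfl : (fun i => τ.hom.app ⊤ (x i)) = x' := funext hx
  refine ⟨fun h => van_of_iso h τ, fun h => ?_⟩
  have h1 := van_of_iso h τ.symm
  have h2 : (fun i => τ.symm.hom.app ⊤ (τ.hom.app ⊤ (x i))) = x :=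
    funext fun i => congr(($(τ.hom_inv_id).app ⊤) (x i))
  rwa [h2] at h1

/-- Linear substitutions. -/
theorem van_comp3_iff {x : Fin 3 → Γ(L, ⊤)} {F : MvPolynomial (Fin 3) Γ(T, ⊤)}
    {g : Matrix (Fin 3) (Fin 3) Γ(T, ⊤)} :
    Van f (fun i => ∑ j, (f.appTop (g i j)) • x j) F ↔ Van f x (comp3 F g) := by
  have key : ∀ (V : C.Opens) (e : Γ(L, V)) (b : Fin 3 → Γ(C, V)), (∀ i, res L le_top (x i) = b i • e) →
      ∀ i, res L le_top (∑ j, (f.appTop (g i j)) • x j) = (∑ j, ρV f V (g i j) * b j) • e := by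
    intro V e b hb i
    rw [map_sum, Finset.sum_smul]
    refine Finset.sum_congr rfl fun j _ => ?_
    rw [res_smul, hb j, smul_smul]
    rfl
  constructor
  · intro h V e b he hb
    rw [eval₂_comp3]
    exact h V e _ he (key V e b hb)
  · intro h V e a he ha
    choose b hb using fun i => he.exists_eq (res L le_top (x i))
    have h1 := h V e b he hb
    rw [eval₂_comp3] at h1
    have h2 : a = fun i => ∑ j, ρV f V (g i j) * b j := funext fun i => he.ext ((ha i).symm.trans (key V e b hb i))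
    rw [h2]
    exact h1

theorem van_C_mul {x : Fin m → Γ(L, ⊤)} {F : MvPolynomial (Fin m) Γ(T, ⊤)} (h : Van f x F) (G : MvPolynomial (Fin m) Γ(T, ⊤)) :
    Van f x (G * F) := by
  intro V e a he ha
  rw [MvPolynomial.eval₂_mul, h V e a he ha, mul_zero]

theorem eval₂_mul_left {A B : Type u} [CommRing A] [CommRing B] (ρ : A →+* B) (u : B) (b : Fin m → B)
    {F : MvPolynomial (Fin m) A} {d : ℕ} (hF : F.IsHomogeneous d) :
    MvPolynomial.eval₂ ρ (fun i => u * b i) F = u ^ d * MvPolynomial.eval₂ ρ b F := by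
  rw [MvPolynomial.eval₂_eq', MvPolynomial.eval₂_eq', Finset.mul_sum]
  refine Finset.sum_congr rfl fun s hs => ?_
  have h1 : ∏ i, (u * b i) ^ s i = u ^ d * ∏ i, b i ^ s i := by
    simp_rw [mul_pow]
    rw [Finset.prod_mul_distrib, Finset.prod_pow_eq_pow_sum]
    congr 2
    rw [← Finsupp.degree_eq_sum]
    by_contra hne
    exact (MvPolynomial.mem_support_iff.mp hs) (hF.coeff_eq_zero hne)
  rw [h1]
  ring

theorem ores_eval₂ {T' X : Scheme.{u}} (f : X ⟶ T') {V W : X.Opens} (h : W ≤ V) (a : Fin m → Γ(X, V))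
    (F : MvPolynomial (Fin m) Γ(T', ⊤)) : ores h (MvPolynomial.eval₂ (ρV f V) a F) =
      MvPolynomial.eval₂ (ρV f W) (fun i => ores h (a i)) F := by
  rw [MvPolynomial.hom_eval₂]
  congr 1
  ext t
  exact ores_ores _ _ _

theorem app_eval₂ (r : Y ⟶ C) (U : C.Opens) (b : Fin m → Γ(C, U)) (F : MvPolynomial (Fin m) Γ(T, ⊤)) :
    (r.app U).hom (MvPolynomial.eval₂ (ρV f U) b F) =
      MvPolynomial.eval₂ (ρV (r ≫ f) (r ⁻¹ᵁ U)) (fun i => (r.app U).hom (b i)) F := by
  rw [MvPolynomial.hom_eval₂]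
  congr 1
  ext t
  have h1 : r.app U (ores (le_top : U ≤ ⊤) (f.appTop t)) =
      ores ((r.preimage_mono (le_top : U ≤ ⊤))) (r.app ⊤ (f.appTop t)) :=
    congr($(r.naturality (homOfLE (le_top : U ≤ ⊤)).op) (f.appTop t))
  refine h1.trans ?_
  have h2 : (r ≫ f).appTop t = r.app ⊤ (f.appTop t) := by
    rw [Scheme.Hom.comp_appTop]; rfl
  exact congrArg (ores _) h2.symm

/-- Pull back of a form vanishing at sections. -/
theorem van_pull {x : Fin m → Γ(L, ⊤)} {F : MvPolynomial (Fin m) Γ(T, ⊤)} {d : ℕ} (h : Van f x F)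
    (hF : F.IsHomogeneous d) (hL : PicF.IsInvertible L) (r : Y ⟶ C) :
    Van (r ≫ f) (fun i => pullTop r (x i)) F := by
  intro V e a he ha
  choose U s hU hs using (isInvertible_iff L).mp hL
  have hcov : V ≤ ⨆ y : V, V ⊓ r ⁻¹ᵁ (U (r y.1)) := by
    intro y hy
    exact TopologicalSpace.Opens.mem_iSup.mpr ⟨⟨y, hy⟩, hy, hU _⟩
  refine ores_ext (fun y : V => V ⊓ r ⁻¹ᵁ (U (r y.1))) (fun y => inf_le_left) hcov fun y => ?_
  rw [map_zero, ores_eval₂]
  set U' := U (r y.1) with hU'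
  set e0 : Γ(L, U') := s (r y.1)
  have he0 : IsGen e0 := hs (r y.1)
  choose b hb using fun i => he0.exists_eq (res L le_top (x i))
  have h1 := h U' e0 b he0 hb
  have h2 := congrArg (r.app U').hom h1
  rw [app_eval₂, map_zero] at h2
  have h3 := congrArg (ores (inf_le_right : V ⊓ r ⁻¹ᵁ U' ≤ r ⁻¹ᵁ U')) h2
  rw [ores_eval₂, map_zero] at h3
  have heW : IsGen (res _ (inf_le_left : V ⊓ r ⁻¹ᵁ U' ≤ V) e) := he.res _
  obtain ⟨w, hw⟩ := heW.exists_eq (res _ (inf_le_right : V ⊓ r ⁻¹ᵁ U' ≤ r ⁻¹ᵁ U') (pullSec r e0))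
  have h4 : (fun i => ores (inf_le_left : V ⊓ r ⁻¹ᵁ U' ≤ V) (a i)) =
      fun i => w * ores (inf_le_right : V ⊓ r ⁻¹ᵁ U' ≤ r ⁻¹ᵁ U') ((r.app U').hom (b i)) := by
    funext i
    refine heW.ext ?_
    have h5 := congrArg (res _ (inf_le_left : V ⊓ r ⁻¹ᵁ U' ≤ V)) (ha i)
    rw [res_res, res_smul] at h5
    rw [← h5, mul_comm, mul_smul, ← hw, ← res_smul]
    have h6 : (r.app U').hom (b i) • pullSec r e0 = pullSec r (b i • e0) := (pullSec_smul r (b i) e0).symm
    rw [h6, ← hb i, ← res_pullSec]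
    exact (res_res _ _ _ _).symm
  rw [h4, eval₂_mul_left _ _ _ hF, h3, mul_zero]

/-- Vanishing can be checked after pull back along an isomorphism. -/
theorem van_of_pull (r : Y ⟶ C) [IsIso r] {x : Fin m → Γ(L, ⊤)} {F : MvPolynomial (Fin m) Γ(T, ⊤)}
    (h : Van (r ≫ f) (fun i => pullTop r (x i)) F) : Van f x F := by
  intro V e a he ha
  have h1 := h (r ⁻¹ᵁ V) (pullSec r e) (fun i => (r.app V).hom (a i)) (he.pullSec r) (fun i => by
    have h2 : res ((Scheme.Modules.pullback r).obj L) (le_top : r ⁻¹ᵁ V ≤ ⊤) (pullTop r (x i)) =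
        pullSec r (res L (le_top : V ≤ ⊤) (x i)) := res_pullSec r (le_top : V ≤ ⊤) (x i)
    rw [h2, ha i]
    exact pullSec_smul r (a i) e)
  rw [← app_eval₂] at h1
  have h3 : Function.Injective (r.app V).hom := (ConcreteCategory.bijective_of_isIso (r.app V)).1
  exact h3 (h1.trans (map_zero _).symm)

end Van

section Con

variable {T C : Scheme.{u}} {c : Fin 5 → Γ(T, ⊤)} {f : C ⟶ T} {L : C.Modules} {x : Fin 3 → Γ(L, ⊤)}

theorem isInvertible (h : IsCon c f L x) : PicF.IsInvertible L := by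
  obtain ⟨ι, -, ⟨τ, -⟩, -⟩ := h
  exact isInvertible_of_iso τ (isInvertible_pullback _ (isInvertible_O1 _ _))

theorem gens (h : IsCon c f L x) : Gens x := by
  obtain ⟨ι, -, hg, -⟩ := h
  exact hg.iSup_genLocus

theorem van_qf (h : IsCon c f L x) : Van f x (qf c) := by
  obtain ⟨ι, rfl, hg, hz⟩ := h
  have h1 := (hz.exists_iff ι).mp ⟨𝟙 _, Category.id_comp _⟩
  have h2 : GivenBy (ι ≫ toZ 2 T) _ (fun i => pullTop ι (crd 2 T i)) := (GivenBy.refl (toZ 2 T)).comp ι
  obtain ⟨e, he⟩ := h2.exists_iso hg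
  exact (van_iff_of_iso e he).mp h1

end Con

end K924.ConVan
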